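import Groth.Agent.Lib.CSA.Splitting
import Groth.Agent.Lib.Azumaya.Constructions
import Mathlib.RingTheory.SimpleRing.Field

set_option autoImplicit false

/-!
# Central simple algebras: further basic facts
-/

universe u v w w'

open scoped TensorProduct

namespace GrothLib.CSAExtra

variable (k : Type u) [Field k]

theorem isCentral_of_matrix {D : Type v} [Ring D] [Algebra k D] (n : Type w) [Fintype n]
    [DecidableEq n] [Nonempty n] [Algebra.IsCentral k (Matrix n n D)] : Algebra.IsCentral k D := by
  refine ⟨fun c hc => ?_⟩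
  rw [Subalgebra.mem_center_iff] at hc
  have h : Matrix.scalar n c ∈ Subalgebra.center k (Matrix n n D) :=
    Subalgebra.mem_center_iff.2 fun M => ((Matrix.scalar_commute c (fun r => (hc r).symm) M).eq).symm
  obtain ⟨r, hr⟩ := (Algebra.IsCentral.mem_center_iff k).1 h
  obtain ⟨i⟩ := ‹Nonempty n›
  exact Algebra.mem_bot.2 ⟨r, by simpa [Matrix.algebraMap_matrix_apply] using
    (congr_fun (congr_fun hr i) i).symm⟩

/-- Wedderburn for central simple algebras. -/
theorem exists_matrix_centralDivisionRing (A : Type v) [Ring A] [Algebra k A]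
    [Algebra.IsCentral k A] [IsSimpleRing A] [FiniteDimensional k A] :
    ∃ (n : ℕ) (_ : NeZero n) (D : Type v) (_ : DivisionRing D) (_ : Algebra k D),
      Algebra.IsCentral k D ∧ FiniteDimensional k D ∧
        Nonempty (A ≃ₐ[k] Matrix (Fin n) (Fin n) D) := by
  have := CSA.isArtinianRing k A
  obtain ⟨n, hn, D, hD, hDA, hDf, ⟨e⟩⟩ :=
    IsSimpleRing.exists_algEquiv_matrix_divisionRing_finite k A
  have := CSA.isCentral_of_algEquiv e
  exact ⟨n, hn, D, hD, hDA, isCentral_of_matrix k (Fin n), hDf, ⟨e⟩⟩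

theorem finrank_matrix_divisionRing {D : Type v} [Ring D] [Algebra k D] [FiniteDimensional k D]
    {A : Type w} [Ring A] [Algebra k A] {n : ℕ} (e : A ≃ₐ[k] Matrix (Fin n) (Fin n) D) :
    Module.finrank k A = n ^ 2 * Module.finrank k D := by
  rw [e.toLinearEquiv.finrank_eq, Module.finrank_matrix]
  simp [sq]

theorem isAzumaya_of_csa (A : Type v) [Ring A] [Algebra k A] [Algebra.IsCentral k A]
    [IsSimpleRing A] [FiniteDimensional k A] : IsAzumaya k A :=
  ⟨CSA.mulLeftRight_bijective k A⟩

theorem csa_of_isAzumaya (A : Type v) [Ring A] [Algebra k A] [IsAzumaya k A] :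
    Algebra.IsCentral k A ∧ IsSimpleRing A ∧ FiniteDimensional k A := by
  have := GrothLib.Azu.faithfullyFlat_of_isAzumaya k A
  have : Nontrivial A := by
    by_contra h
    rw [not_nontrivial_iff_subsingleton] at h
    exact zero_ne_one (eq_of_smul_eq_smul (α := A)
      fun x => Subsingleton.elim ((0 : k) • x) ((1 : k) • x))
  refine ⟨inferInstance, .of_eq_bot_or_eq_top fun I => or_iff_not_imp_left.mpr fun hI => ?_,
    inferInstance⟩
  obtain ⟨x, hx, hx0⟩ : ∃ x ∈ I, x ≠ 0 := by
    by_contra h
    push Not at h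
    exact hI (TwoSidedIdeal.ext fun x => ⟨fun hx => by simpa using h x hx,
      fun hx => by rw [(TwoSidedIdeal.mem_bot A).1 hx]; exact I.zero_mem⟩)
  have hmem : ∀ (z : A ⊗[k] Aᵐᵒᵖ), AlgHom.mulLeftRight k A z x ∈ I := by
    intro z
    induction z using TensorProduct.induction_on with
    | zero => simp [I.zero_mem]
    | tmul a b => rw [AlgHom.mulLeftRight_apply]; exact I.mul_mem_right _ _ (I.mul_mem_left _ _ hx)
    | add y z hy hz => rw [map_add, LinearMap.add_apply]; exact I.add_mem hy hz
  obtain ⟨φ, hφ⟩ := Module.Projective.exists_dual_ne_zero k hx0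
  obtain ⟨z, hz⟩ := (IsAzumaya.bij (R := k) (A := A)).2 (φ.smulRight ((φ x)⁻¹ • (1 : A)))
  rw [← I.one_mem_iff]
  have h := hmem z
  rw [hz, LinearMap.smulRight_apply, smul_smul, mul_inv_cancel₀ hφ, one_smul] at h
  exact h

theorem csa_iff_isAzumaya (A : Type v) [Ring A] [Algebra k A] [FiniteDimensional k A] :
    (Algebra.IsCentral k A ∧ IsSimpleRing A) ↔ IsAzumaya k A :=
  ⟨fun ⟨_, _⟩ => isAzumaya_of_csa k A, fun _ => ⟨(csa_of_isAzumaya k A).1, (csa_of_isAzumaya k A).2.1⟩⟩

theorem csa_baseChange (K : Type w) [Field K] [Algebra k K] (A : Type v) [Ring A] [Algebra k A]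
    [Algebra.IsCentral k A] [IsSimpleRing A] [FiniteDimensional k A] :
    Algebra.IsCentral K (K ⊗[k] A) ∧ IsSimpleRing (K ⊗[k] A) ∧ FiniteDimensional K (K ⊗[k] A) := by
  have := isAzumaya_of_csa k A
  have := GrothLib.Azu.isAzumaya_baseChange k K A
  exact csa_of_isAzumaya K (K ⊗[k] A)

/-- Two automorphism-related anti-automorphisms differ by an inner automorphism. -/
theorem exists_unit_conj_of_antiHoms {A : Type v} [Ring A] [Algebra k A] [IsSimpleRing A]
    [FiniteDimensional k A] (s t : A →ₗ[k] A)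
    (hs1 : s 1 = 1) (hsmul : ∀ x y : A, s (x * y) = s y * s x)
    (ht1 : t 1 = 1) (htmul : ∀ x y : A, t (x * y) = t y * t x) (htt : ∀ x : A, t (t x) = x)
    (hagree : ∀ c ∈ Subalgebra.center k A, s c = t c) :
    ∃ a : Aˣ, ∀ x : A, s x = (a : A) * t x * (a⁻¹ : Aˣ) := by
  let := (IsSimpleRing.isField_center A).toField
  have hc : ∀ x : A, x ∈ Subalgebra.center k A ↔ x ∈ Subring.center A := fun x => by
    rw [Subalgebra.mem_center_iff, Subring.mem_center_iff]
  have : FiniteDimensional (Subring.center A) A := by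
    obtain ⟨S, hS⟩ := (Module.Finite.fg_top : (⊤ : Submodule k A).FG)
    refine ⟨⟨S, ?_⟩⟩
    rw [eq_top_iff]
    intro x _
    have hx : x ∈ Submodule.span k (S : Set A) := by rw [hS]; trivial
    rename_i hx'; clear hx'
    induction hx using Submodule.span_induction with
    | mem y hy => exact Submodule.subset_span hy
    | zero => exact zero_mem _
    | add y z _ _ hy hz => exact add_mem hy hz
    | smul r y _ hy =>
      have hr : algebraMap k A r ∈ Subring.center A :=
        Subring.mem_center_iff.2 fun g => (Algebra.commutes r g).symm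
      have := Submodule.smul_mem (Submodule.span (Subring.center A) (S : Set A))
        (⟨_, hr⟩ : Subring.center A) hy
      rw [Subring.smul_def] at this
      simpa [Algebra.smul_def] using this
  have : Algebra.IsCentral (Subring.center A) A := ⟨fun x hx => by
    rw [Subalgebra.mem_center_iff] at hx
    exact Algebra.mem_bot.2 ⟨⟨x, Subring.mem_center_iff.2 hx⟩, rfl⟩⟩
  have htc : ∀ x ∈ Subalgebra.center k A, t x ∈ Subalgebra.center k A := by
    intro x hx
    rw [Subalgebra.mem_center_iff] at hx ⊢
    intro y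
    rw [← htt y, ← htmul, ← htmul, hx (t y)]
  let f : A →ₐ[Subring.center A] A :=
    { toFun := fun x => s (t x)
      map_one' := by rw [ht1, hs1]
      map_mul' := fun x y => by rw [htmul, hsmul]
      map_zero' := by rw [map_zero, map_zero]
      map_add' := fun x y => by rw [map_add, map_add]
      commutes' := fun z => by
        show s (t (z : A)) = (z : A)
        rw [hagree _ (htc _ ((hc _).2 z.2)), htt] }
  obtain ⟨u, hu⟩ := CSA.skolem_noether f (AlgHom.id _ A)
  refine ⟨u, fun x => ?_⟩
  have h : s (t (t x)) = u * t x * (u⁻¹ : Aˣ) := hu (t x)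
  rwa [htt] at h

end GrothLib.CSAExtra
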